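import Groth.Agent.H66.DimOne.Mult
import Groth.Agent.Lib.WittU.UnipStruct
import Mathlib

/-! One-dimensional connected unipotent groups are additive groups. -/

set_option autoImplicit false
set_option linter.unusedSectionVars false

universe u

open WithConv

namespace Groth.Agent.H66.DimOne

open Groth.Agent.Lib.Comod.Basic Groth.Agent.Lib.WittU Groth.Agent.H66.Unip

noncomputable section

variable {k : Type u} [Field k] {A : Type u} [CommRing A] [HopfAlgebra k A] [Coalgebra.IsCocomm k A]

variable (k A) in
/-- The group of points, written additively. -/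
abbrev GPt : Type u := Additive (WithConv (A →ₐ[k] k))

variable (k A) in
/-- Evaluation of functions at points. -/
def evAll : A →ₐ[k] (GPt k A → k) where
  toFun a x := (Additive.toMul x).ofConv a
  map_one' := funext fun x => map_one (Additive.toMul x).ofConv
  map_mul' a b := funext fun x => map_mul (Additive.toMul x).ofConv a b
  map_zero' := funext fun x => map_zero (Additive.toMul x).ofConv
  map_add' a b := funext fun x => map_add (Additive.toMul x).ofConv a b
  commutes' r := funext fun x => (Additive.toMul x).ofConv.commutes r

instance instRegSpace : Reg.RegSpace k (GPt k A) := ⟨(evAll k A).range⟩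

theorem isReg_evAll (a : A) : Reg.IsReg (evAll k A a) := ⟨a, rfl⟩

theorem evAll_add (a : A) (x y : GPt k A) :
    evAll k A a (x + y) = evAll k A (dact A (Additive.toMul y).ofConv.toLinearMap a) x := by
  show (Additive.toMul x * Additive.toMul y).ofConv a = (Additive.toMul x).ofConv _
  rw [AlgHom.convMul_apply, dact_apply]
  show _ = (Additive.toMul x).ofConv (contract A _ (CoalgebraStruct.comul (R := k) a))
  generalize CoalgebraStruct.comul (R := k) a = z
  induction z using TensorProduct.induction_on with
  | zero => simp
  | add p q hp hq => simp only [map_add, hp, hq]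
  | tmul p q => simp [mul_comm]

instance instRegAddGroup : Reg.RegAddGroup k (GPt k A) where
  reg_add := by
    rintro _ ⟨a, rfl⟩
    have h : ∀ z : TensorProduct k A A, Reg.IsReg fun w : GPt k A × GPt k A =>
        Algebra.TensorProduct.productMap (Additive.toMul w.1).ofConv (Additive.toMul w.2).ofConv z := by
      intro z
      induction z using TensorProduct.induction_on with
      | zero => simpa using Reg.isReg_const (X := GPt k A × GPt k A) (0 : k)
      | add p q hp hq => simpa only [map_add] using hp.add hq
      | tmul p q =>
        simpa [evAll] using (Reg.IsReg.comp (isReg_evAll p) Reg.isRegMap_fst).mul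
          (Reg.IsReg.comp (isReg_evAll q) Reg.isRegMap_snd)
    convert h (CoalgebraStruct.comul (R := k) a) using 1
    funext w
    show (Additive.toMul w.1 * Additive.toMul w.2).ofConv a = _
    rw [AlgHom.convMul_apply]
    generalize CoalgebraStruct.comul (R := k) a = z
    induction z using TensorProduct.induction_on with
    | zero => simp
    | add p q hp hq => simp only [map_add, hp, hq]
    | tmul p q => simp
  reg_neg := by
    rintro _ ⟨a, rfl⟩
    exact ⟨HopfAlgebra.antipodeAlgHom k A a, funext fun x => rfl⟩

variable (k A) in
/-- Elements as regular functions. -/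
def evFn : A →ₐ[k] UnipChar.Fn k (GPt k A) := (evAll k A).rangeRestrict

theorem evFn_apply (a : A) (x : GPt k A) : (evFn k A a : GPt k A → k) x = (Additive.toMul x).ofConv a := rfl

theorem low_of_mem_fil (n : ℕ) : ∀ a ∈ fil k A A n, UnipChar.Low n (evFn k A a) := by
  induction n with
  | zero =>
    intro a ha
    rw [fil_zero, Submodule.mem_bot] at ha
    rw [ha, map_zero]
    exact .zero
  | succ n ih =>
    intro a ha
    refine .succ fun y => ?_
    have h := mem_fil_succ.1 ha (Additive.toMul y).ofConv.toLinearMap
    rw [show (Additive.toMul y).ofConv.toLinearMap 1 = 1 from map_one (Additive.toMul y).ofConv, one_smul] at h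
    have heq : UnipChar.tr y (evFn k A a) - evFn k A a =
        evFn k A (dact A (Additive.toMul y).ofConv.toLinearMap a - a) := by
      rw [map_sub]
      congr 1
      exact Subtype.ext (funext fun x => evAll_add a x y)
    rw [heq]
    exact ih _ h

variable [IsAlgClosed k] [Algebra.FiniteType k A] [IsDomain A]

theorem evFn_bijective : Function.Bijective (evFn k A) :=
  ⟨fun a b h => sub_eq_zero.1 (eq_zero_of_forall (k := k) fun γ => by
    rw [map_sub, sub_eq_zero]
    exact congrFun (congrArg Subtype.val h) (Additive.ofMul γ)),
    (evAll k A).rangeRestrict_surjective⟩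

variable (hdim : ringKrullDim A = 1)

include hdim

/-- A one-dimensional connected unipotent group is `Ga`. -/
theorem nonempty_Ga (hU : HopfRep.IsUnipotent k A) : Nonempty (A ≃ₐc[k] SymmetricAlgebra k k) := by
  classical
  let E := AlgEquiv.ofBijective (evFn k A) evFn_bijective
  haveI : IsDomain (UnipChar.Fn k (GPt k A)) := E.symm.toMulEquiv.isDomain A
  haveI : Algebra.FiniteType k (UnipChar.Fn k (GPt k A)) := Algebra.FiniteType.equiv inferInstance E
  obtain ⟨T, e, he, he'⟩ := UnipStruct.exists_tower (k := k) (X := GPt k A)
    (fun φ => ⟨Additive.ofMul (toConv (φ.comp (evFn k A))), fun f => by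
      obtain ⟨a, rfl⟩ := evFn_bijective.2 f
      rfl⟩)
    (fun x y h => Additive.toMul.injective (WithConv.ofConv_injective (AlgHom.ext fun a => h (evFn k A a))))
    fun f => by
      obtain ⟨a, rfl⟩ := evFn_bijective.2 f
      obtain ⟨n, hn⟩ := mem_fil_exists hU a
      exact ⟨n, low_of_mem_fil n a hn⟩
  obtain ⟨C⟩ := T.isTwr.coord
  have hs : T.dim = 1 := by
    let pull : UnipChar.Fn k T.H →ₐ[k] UnipChar.Fn k (GPt k A) :=
      ((Twr.pullFn (k := k) (e : GPt k A → T.H)).comp (UnipChar.Fn k T.H).val).codRestrict _ fun g =>
        he (g : T.H → k) g.2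
    have hpull : Function.Bijective pull := by
      refine ⟨fun f g h => Subtype.ext (funext fun t => ?_), fun f => ⟨⟨_, he' (f : GPt k A → k) f.2⟩, ?_⟩⟩
      · have := congrFun (congrArg Subtype.val h) (e.symm t)
        simpa [pull, Twr.pullFn] using this
      · refine Subtype.ext (funext fun x => ?_)
        simp [pull, Twr.pullFn]
    have h := ringKrullDim_eq_of_ringEquiv
      ((C.algEquiv.trans (AlgEquiv.ofBijective pull hpull)).trans E.symm).toRingEquiv
    rw [MvPolynomial.ringKrullDim_of_isNoetherianRing, ringKrullDim_eq_zero_of_field, hdim, zero_add] at h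
    simpa using h
  obtain ⟨H, dim, htwr⟩ := T
  simp only at hs
  subst hs
  cases htwr with
  | ext c h0 =>
    cases h0
    -- the coordinate
    let u : GPt k A → k := fun x => (e x).fib + c PUnit.unit PUnit.unit
    have hu : Reg.IsReg u := ((Twr.isReg_fib (c := c)).comp he).add (Reg.isReg_const _)
    obtain ⟨a, ha⟩ := hu
    have huadd : ∀ x y, u (x + y) = u x + u y := by
      intro x y
      show (e (x + y)).fib + _ = _
      rw [map_add, Twr.add_fib, Subsingleton.elim (e x).base PUnit.unit]
      show (e x).fib + (e y).fib + c PUnit.unit PUnit.unit + c PUnit.unit PUnit.unit = ((e x).fib + c PUnit.unit PUnit.unit) + ((e y).fib + c PUnit.unit PUnit.unit)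
      ring
    have hval : ∀ γ : WithConv (A →ₐ[k] k), γ.ofConv a = u (Additive.ofMul γ) := fun γ => congrFun ha (Additive.ofMul γ)
    have hprim : CoalgebraStruct.comul (R := k) a = a ⊗ₜ[k] (1 : A) + (1 : A) ⊗ₜ[k] a := by
      rw [← sub_eq_zero]
      refine H83.HopfPts.eq_zero_of_points (k := k) fun g g' => ?_
      have h1 : Algebra.TensorProduct.productMap g g' (CoalgebraStruct.comul (R := k) a) =
          (toConv g * toConv g').ofConv a := by
        rw [AlgHom.convMul_apply]
        generalize CoalgebraStruct.comul (R := k) a = z
        induction z using TensorProduct.induction_on with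
        | zero => simp
        | add p q hp hq => simp only [map_add, hp, hq]
        | tmul p q => simp
      rw [map_sub, map_add, h1, hval, sub_eq_zero, Algebra.TensorProduct.productMap_apply_tmul,
        Algebra.TensorProduct.productMap_apply_tmul, map_one, map_one, mul_one, one_mul,
        show g a = _ from hval (toConv g), show g' a = _ from hval (toConv g')]
      exact huadd _ _
    let pt : k → GPt k A := fun t => e.symm ⟨PUnit.unit, t - c PUnit.unit PUnit.unit⟩
    have hpt : ∀ t, u (pt t) = t := fun t => by simp [u, pt]
    have hpt' : ∀ x, pt (u x) = x := fun x => by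
      refine e.injective ?_
      rw [e.apply_symm_apply]
      exact Twr.CExt.ext' (Subsingleton.elim _ _) (by simp [u])
    let f : SymmetricAlgebra k k →ₐ[k] A := SymmetricAlgebra.lift (LinearMap.toSpanSingleton k A a)
    let ι₁ : SymmetricAlgebra k k := SymmetricAlgebra.ι k k 1
    have hf : ∀ P : Polynomial k, f (Polynomial.aeval ι₁ P) = Polynomial.aeval a P := by
      intro P
      rw [← Polynomial.aeval_algHom_apply]
      simp [f, ι₁]
    have hval2 : ∀ (P : Polynomial k) (x : GPt k A),
        (Additive.toMul x).ofConv (Polynomial.aeval a P) = P.eval (u x) := by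
      intro P x
      rw [← Polynomial.aeval_algHom_apply, hval, Polynomial.coe_aeval_eq_eval]
      rfl
    have hgen : ∀ z : SymmetricAlgebra k k, ∃ P : Polynomial k, Polynomial.aeval ι₁ P = z := by
      intro z
      induction z using SymmetricAlgebra.induction with
      | algebraMap r => exact ⟨Polynomial.C r, Polynomial.aeval_C _ _⟩
      | ι r => exact ⟨r • Polynomial.X, by rw [map_smul, Polynomial.aeval_X, ← map_smul, smul_eq_mul, mul_one]⟩
      | mul p q hp hq =>
        obtain ⟨P, rfl⟩ := hp; obtain ⟨Q, rfl⟩ := hq
        exact ⟨P * Q, map_mul _ _ _⟩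
      | add p q hp hq =>
        obtain ⟨P, rfl⟩ := hp; obtain ⟨Q, rfl⟩ := hq
        exact ⟨P + Q, map_add _ _ _⟩
    have hinj : Function.Injective f := by
      refine (injective_iff_map_eq_zero _).2 fun z hz => ?_
      obtain ⟨P, rfl⟩ := hgen z
      rw [hf] at hz
      rw [Polynomial.funext (p := P) (q := 0) fun t => by
        rw [Polynomial.eval_zero, ← hpt t, ← hval2, hz, map_zero], map_zero]
    have hsurj : Function.Surjective f := by
      intro b
      have hb : Reg.IsReg fun t : k => evAll k A b (pt t) :=
        (isReg_evAll b).comp (Reg.IsRegMap.comp he'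
          (Twr.isRegMap_mkExt (Reg.isRegMap_const _) (Reg.isReg_id'.sub (Reg.isReg_const _))))
      have hb' : (fun t : k => evAll k A b (pt t)) ∈ Algebra.adjoin k {(id : k → k)} := hb
      rw [Algebra.adjoin_singleton_eq_range_aeval, AlgHom.mem_range] at hb'
      obtain ⟨P, hP⟩ := hb'
      refine ⟨Polynomial.aeval ι₁ P, (hf P).trans (sub_eq_zero.1 (eq_zero_of_forall (k := k) fun γ => ?_))⟩
      rw [map_sub, sub_eq_zero, show γ = Additive.toMul (Additive.ofMul γ) from rfl, hval2]
      have h1 := congrFun hP (u (Additive.ofMul γ))
      rw [hpt'] at h1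
      refine Eq.trans ?_ h1
      rw [Polynomial.aeval_pi_apply]
      simp
    have hε : CoalgebraStruct.counit (R := k) a = 0 := by
      have h := hval 1
      rw [show u (Additive.ofMul (1 : WithConv (A →ₐ[k] k))) = 0 from by
        have h2 := huadd 0 0
        rw [add_zero] at h2
        exact left_eq_add.1 h2] at h
      simpa using h
    let F : SymmetricAlgebra k k →ₐc[k] A := BialgHom.ofAlgHom f
      (SymmetricAlgebra.algHom_ext (LinearMap.ext_ring (by simp [f, hε, SymmetricAlgebra.algebraMapInv])))
      (SymmetricAlgebra.algHom_ext (LinearMap.ext_ring (by simp [f, hprim])))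
    exact ⟨(BialgEquiv.ofBijective F ⟨hinj, hsurj⟩).symm⟩

end

end Groth.Agent.H66.DimOne
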