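import Groth.Agent.H83.HopfPts.Rosenlicht
import Groth.Agent.H66.UnipPoints
import Groth.Agent.H66.Coeff
import Groth.Agent.S5423
import Groth.Agent.S7986
import Mathlib

/-! Connected one-dimensional affine groups over an algebraically closed field are commutative. -/

set_option autoImplicit false
set_option linter.unusedSectionVars false

universe u

open WithConv

namespace Groth.Agent.H66.DimOne

open Groth.Agent.Lib.Comod.Basic

noncomputable section

variable {k : Type u} [Field k] {A : Type u} [CommRing A] [HopfAlgebra k A]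

/-- Evaluation at a point of morphisms of the group to itself. -/
def evPt (γ : WithConv (A →ₐ[k] k)) : WithConv (A →ₐ[k] A) →* WithConv (A →ₐ[k] k) where
  toFun θ := toConv (γ.ofConv.comp θ.ofConv)
  map_one' := by
    refine WithConv.ofConv_injective (AlgHom.ext fun a => ?_)
    simp
  map_mul' θ θ' := by
    apply WithConv.ofConv_injective
    exact AlgHom.comp_convMul_distrib γ.ofConv θ θ'

theorem evPt_apply (γ : WithConv (A →ₐ[k] k)) (θ : WithConv (A →ₐ[k] A)) (a : A) :
    (evPt γ θ).ofConv a = γ.ofConv (θ.ofConv a) := rfl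

/-- The constant map at a point. -/
def constPt (x : WithConv (A →ₐ[k] k)) : WithConv (A →ₐ[k] A) := toConv ((Algebra.ofId k A).comp x.ofConv)

theorem evPt_constPt (γ x : WithConv (A →ₐ[k] k)) : evPt γ (constPt x) = x :=
  WithConv.ofConv_injective (AlgHom.ext fun a => γ.ofConv.commutes _)

theorem evPt_id (γ : WithConv (A →ₐ[k] k)) : evPt γ (toConv (AlgHom.id k A)) = γ :=
  WithConv.ofConv_injective (AlgHom.comp_id _)

/-- Conjugation of `x` by the generic point. -/
def cj (x : WithConv (A →ₐ[k] k)) : WithConv (A →ₐ[k] A) :=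
  toConv (AlgHom.id k A) * constPt x * (toConv (AlgHom.id k A))⁻¹

theorem evPt_cj (γ x : WithConv (A →ₐ[k] k)) : evPt γ (cj x) = γ * x * γ⁻¹ := by
  rw [cj, map_mul, map_mul, map_inv, evPt_id, evPt_constPt]

section Curve

variable [IsAlgClosed k] [Algebra.FiniteType k A] [IsDomain A]

theorem eq_zero_of_forall {a : A} (h : ∀ γ : WithConv (A →ₐ[k] k), γ.ofConv a = 0) : a = 0 :=
  Lib.Hopf.Points.eq_zero_of_forall_point_eq_zero (k := k) fun g => h (toConv g)

variable (hdim : ringKrullDim A = 1)

include hdim

theorem isMaximal_of_ne_bot {p : Ideal A} [hp : p.IsPrime] (h : p ≠ ⊥) : p.IsMaximal := by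
  haveI : Ring.KrullDimLE 1 A := Ring.krullDimLE_iff.2 (by rw [hdim]; rfl)
  exact Ring.krullDimLE_one_iff_of_noZeroDivisors.1 inferInstance p h hp

theorem finite_zero {a : A} (ha : a ≠ 0) : {γ : WithConv (A →ₐ[k] k) | γ.ofConv a = 0}.Finite := by
  haveI : IsNoetherianRing A := Algebra.FiniteType.isNoetherianRing k A
  refine ((Ideal.finite_minimalPrimes_of_isNoetherianRing A (Ideal.span {a})).subset ?_).of_finite_image
    (f := fun γ : WithConv (A →ₐ[k] k) => RingHom.ker γ.ofConv) fun γ _ δ _ h => ?_
  · rintro _ ⟨γ, hγ, rfl⟩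
    refine ⟨⟨RingHom.ker_isPrime _, (Ideal.span_singleton_le_iff_mem _).2 hγ⟩, fun q hq hle => ?_⟩
    have hq0 : q ≠ ⊥ := fun h0 => ha ((Ideal.mem_bot).1 (h0 ▸ hq.2 (Ideal.mem_span_singleton_self a)))
    haveI := hq.1
    haveI := isMaximal_of_ne_bot hdim hq0
    exact ((this.eq_of_le (RingHom.ker_isPrime γ.ofConv).ne_top hle).symm).le
  · refine WithConv.ofConv_injective (AlgHom.ext fun b => ?_)
    have hb : b - algebraMap k A (γ.ofConv b) ∈ RingHom.ker γ.ofConv := by simp [RingHom.mem_ker]
    simp only at h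
    rw [h, RingHom.mem_ker, map_sub, AlgHom.commutes, sub_eq_zero] at hb
    exact hb.symm

theorem eq_zero_of_infinite {S : Set (WithConv (A →ₐ[k] k))} (hS : S.Infinite) {a : A}
    (h : ∀ γ ∈ S, γ.ofConv a = 0) : a = 0 := by
  by_contra ha
  exact hS ((finite_zero hdim ha).subset h)

theorem infinite_pts : (Set.univ : Set (WithConv (A →ₐ[k] k))).Infinite := by
  intro hfin
  classical
  have hne : ∀ γ : WithConv (A →ₐ[k] k), ∃ a : A, a ≠ 0 ∧ γ.ofConv a = 0 := by
    intro γ
    by_contra hc
    push_neg at hc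
    have hinj : Function.Injective γ.ofConv := (injective_iff_map_eq_zero _).2 fun a ha => by
      by_contra hne; exact hc a hne ha
    have h0 := ringKrullDim_eq_of_ringEquiv (RingEquiv.ofBijective γ.ofConv.toRingHom
      ⟨hinj, fun c => ⟨algebraMap k A c, γ.ofConv.commutes c⟩⟩)
    rw [hdim, ringKrullDim_eq_zero_of_field] at h0
    exact one_ne_zero h0
  choose a ha0 haγ using hne
  refine Finset.prod_ne_zero_iff.2 (fun γ _ => ha0 γ) (eq_zero_of_forall (k := k)
    (a := ∏ γ ∈ hfin.toFinset, a γ) fun γ => ?_)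
  rw [map_prod]
  exact Finset.prod_eq_zero (hfin.mem_toFinset.2 trivial) (haγ γ)

theorem const_of_infinite_fibre (θ : WithConv (A →ₐ[k] A)) {z : WithConv (A →ₐ[k] k)}
    (h : {γ | evPt γ θ = z}.Infinite) : θ = constPt z := by
  refine WithConv.ofConv_injective (AlgHom.ext fun a => sub_eq_zero.1 (eq_zero_of_infinite hdim h fun γ hγ => ?_))
  rw [map_sub, sub_eq_zero, ← evPt_apply, ← evPt_apply, evPt_constPt, (hγ : evPt γ θ = z)]

theorem exists_fibre {β : Type*} (f : WithConv (A →ₐ[k] k) → β) {T : Set β} (hT : T.Finite) (h : ∀ γ, f γ ∈ T) :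
    ∃ z, {γ | f γ = z}.Infinite := by
  by_contra! hc
  exact infinite_pts hdim ((hT.biUnion fun z _ => hc z).subset fun γ _ => Set.mem_biUnion (h γ) rfl)

theorem const_or_infinite_range (θ : WithConv (A →ₐ[k] A)) :
    (∃ z, ∀ γ, evPt γ θ = z) ∨
      (Set.range fun γ => evPt γ θ).Infinite ∧ Function.Injective θ.ofConv := by
  classical
  by_cases hinj : Function.Injective θ.ofConv
  · by_cases hfin : (Set.range fun γ => evPt γ θ).Finite
    · left
      obtain ⟨z, hz⟩ := exists_fibre hdim (fun γ => evPt γ θ) hfin fun γ => ⟨γ, rfl⟩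
      exact ⟨z, fun γ => by rw [const_of_infinite_fibre hdim θ hz, evPt_constPt]⟩
    · exact Or.inr ⟨hfin, hinj⟩
  · left
    obtain ⟨a, ha0, ha⟩ : ∃ a, θ.ofConv a = 0 ∧ a ≠ 0 := by
      by_contra hc
      push_neg at hc
      exact hinj ((injective_iff_map_eq_zero _).2 hc)
    obtain ⟨z, hz⟩ := exists_fibre hdim (fun γ => evPt γ θ) (finite_zero hdim ha)
      fun γ => show (evPt γ θ).ofConv a = 0 by rw [evPt_apply, ha0, map_zero]
    exact ⟨z, fun γ => by rw [const_of_infinite_fibre hdim θ hz, evPt_constPt]⟩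

theorem isUnipotent_of_dense_class {x : WithConv (A →ₐ[k] k)} (hx : Function.Injective (cj x).ofConv) :
    HopfRep.IsUnipotent k A := by
  classical
  refine (Groth.Agent.S5423.result k A).2 fun g V _ _ _ hV => ?_
  let b := Module.Free.chooseBasis k V
  let ρ : WithConv (A →ₐ[k] k) →* Module.End k V :=
    { toFun := fun g => dact V g.ofConv.toLinearMap
      map_one' := by
        rw [show ((1 : WithConv (A →ₐ[k] k)).ofConv.toLinearMap) = CoalgebraStruct.counit (R := k) (A := A) from
          LinearMap.ext fun a => by simp, dact_counit]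
        rfl
      map_mul' := fun g g' => LinearMap.ext fun v => by
        rw [Module.End.mul_apply, dact_dact]
        exact congrArg (fun φ => dact V φ v) (congrArg WithConv.ofConv (H66.UnipPoints.toDual.map_mul g g')) }
  let M : Matrix _ _ A := Matrix.of fun i j => H66.Coeff.coeff (C := A) (b.coord i) (b j)
  have hM : ∀ γ : WithConv (A →ₐ[k] k), M.map γ.ofConv = LinearMap.toMatrix b b (ρ γ) := by
    intro γ
    ext i j
    rw [Matrix.map_apply, LinearMap.toMatrix_apply, ← Module.Basis.coord_apply]
    show γ.ofConv (H66.Coeff.coeff (C := A) (b.coord i) (b j)) = b.coord i (dact V γ.ofConv.toLinearMap (b j))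
    rw [dact_apply, H66.Coeff.coeff_apply]
    induction HopfRep.Comod.coact (k := k) (A := A) (b j) using TensorProduct.induction_on with
    | zero => simp
    | add p q hp hq => simp only [map_add, hp, hq]
    | tmul p q => simp [mul_comm]
  have hcp : ∀ γ : WithConv (A →ₐ[k] k), M.charpoly.map γ.ofConv.toRingHom = (LinearMap.toMatrix b b (ρ γ)).charpoly := by
    intro γ
    rw [← hM, ← Matrix.charpoly_map]
    rfl
  have hconst : ∀ i, M.charpoly.coeff i = algebraMap k A ((LinearMap.toMatrix b b (ρ x)).charpoly.coeff i) := by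
    intro i
    refine hx (sub_eq_zero.1 (eq_zero_of_forall (k := k) fun γ => ?_))
    rw [map_sub, sub_eq_zero, AlgHom.commutes, AlgHom.commutes, ← evPt_apply, evPt_cj]
    have h1 := congrArg (fun p => Polynomial.coeff p i) (hcp (γ * x * γ⁻¹))
    simp only [Polynomial.coeff_map] at h1
    refine h1.trans ?_
    rw [map_mul ρ, map_mul ρ, LinearMap.toMatrix_mul, LinearMap.toMatrix_mul, Matrix.charpoly_mul_comm,
      ← Matrix.mul_assoc, ← LinearMap.toMatrix_mul, ← map_mul ρ, inv_mul_cancel, map_one, LinearMap.toMatrix_one,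
      Matrix.one_mul, Algebra.algebraMap_self, RingHom.id_apply]
  have hall : ∀ γ : WithConv (A →ₐ[k] k), (LinearMap.toMatrix b b (ρ γ)).charpoly =
      (LinearMap.toMatrix b b (ρ x)).charpoly := by
    intro γ
    ext i
    rw [← hcp, Polynomial.coeff_map, hconst]
    exact γ.ofConv.commutes _
  have hd : (LinearMap.toMatrix b b (ρ (toConv g))).charpoly =
      (Polynomial.X - 1) ^ Fintype.card (Module.Free.ChooseBasisIndex k V) := by
    rw [hall, ← hall 1, map_one, LinearMap.toMatrix_one, Matrix.charpoly_one]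
  refine ⟨Fintype.card (Module.Free.ChooseBasisIndex k V), ?_⟩
  have h := LinearMap.aeval_self_charpoly (ρ (toConv g))
  rw [← LinearMap.charpoly_toMatrix _ b, hd, map_pow, map_sub, Polynomial.aeval_X, map_one] at h
  exact h

theorem commute_pts (γ δ : WithConv (A →ₐ[k] k)) : γ * δ = δ * γ := by
  classical
  have hclass : ∀ x : WithConv (A →ₐ[k] k), x ∉ Subgroup.center _ →
      (Set.range fun γ => γ * x * γ⁻¹).Infinite ∧ Function.Injective (cj x).ofConv := by
    intro x hx
    rcases const_or_infinite_range hdim (cj x) with ⟨z, hz⟩ | h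
    · refine absurd (Subgroup.mem_center_iff.2 fun γ => ?_) hx
      have h1 := hz γ
      rw [← hz 1, evPt_cj, evPt_cj, one_mul, inv_one, mul_one, mul_inv_eq_iff_eq_mul] at h1
      exact h1
    · simpa only [evPt_cj] using h
  suffices hc : Subgroup.center (WithConv (A →ₐ[k] k)) = ⊤ from
    (Subgroup.mem_center_iff.1 (hc ▸ Subgroup.mem_top δ) γ)
  by_contra hne
  obtain ⟨x₀, -, hx₀⟩ := SetLike.exists_of_lt (lt_of_le_of_ne le_top hne)
  haveI : Group.IsNilpotent (WithConv (A →ₐ[k] k)) :=
    Groth.Agent.S7986.result k A (isUnipotent_of_dense_class hdim (hclass x₀ hx₀).2)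
  obtain ⟨x, hx2, hx1⟩ : ∃ x, x ∈ Subgroup.upperCentralSeries (WithConv (A →ₐ[k] k)) 2 ∧
      x ∉ Subgroup.center (WithConv (A →ₐ[k] k)) := by
    by_contra! hle
    obtain ⟨n, hn⟩ := Group.IsNilpotent.nilpotent (G := WithConv (A →ₐ[k] k))
    have key : ∀ m, Subgroup.upperCentralSeries (WithConv (A →ₐ[k] k)) m ≤ Subgroup.center _ := by
      intro m
      induction m with
      | zero => rw [Subgroup.upperCentralSeries_zero]; exact bot_le
      | succ m ih =>
        intro y hy
        refine hle y ?_
        rw [Subgroup.mem_upperCentralSeries_succ_iff] at hy ⊢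
        intro z
        rw [Subgroup.upperCentralSeries_one]
        exact ih (hy z)
    exact hne (top_le_iff.1 (hn ▸ key n))
  have hZ : (Subgroup.center (WithConv (A →ₐ[k] k)) : Set (WithConv (A →ₐ[k] k))).Infinite := by
    refine ((hclass x hx1).1.image (f := fun c => x * c⁻¹) fun a _ b _ hab => ?_).mono ?_
    · exact inv_injective (mul_left_cancel hab)
    · rintro _ ⟨_, ⟨γ, rfl⟩, rfl⟩
      have := Subgroup.mem_upperCentralSeries_succ_iff.1 hx2 γ
      rw [Subgroup.upperCentralSeries_one] at this
      show x * (γ * x * γ⁻¹)⁻¹ ∈ Subgroup.center _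
      simpa [mul_assoc, commutatorElement_def] using this
  refine hne ((Subgroup.eq_top_iff' _).2 fun y => Subgroup.mem_center_iff.2 fun γ => ?_)
  have heq : toConv (AlgHom.id k A) * constPt y = constPt y * toConv (AlgHom.id k A) :=
    WithConv.ofConv_injective (AlgHom.ext fun a => sub_eq_zero.1 (eq_zero_of_infinite hdim hZ fun c hc => by
      rw [map_sub, sub_eq_zero, ← evPt_apply, ← evPt_apply, map_mul, map_mul, evPt_id, evPt_constPt,
        Subgroup.mem_center_iff.1 hc y]))
  have h2 := congrArg (evPt γ) heq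
  rwa [map_mul, map_mul, evPt_id, evPt_constPt] at h2

theorem isCocomm : Coalgebra.IsCocomm k A where
  comm_comp_comul := LinearMap.ext fun a => by
    rw [LinearMap.comp_apply, ← sub_eq_zero]
    refine H83.HopfPts.eq_zero_of_points (k := k) fun g g' => ?_
    have h1 : ∀ (g g' : A →ₐ[k] k), Algebra.TensorProduct.productMap g g' (CoalgebraStruct.comul (R := k) a) =
        (toConv g * toConv g').ofConv a := fun g g' => by
      rw [AlgHom.convMul_apply]
      generalize CoalgebraStruct.comul (R := k) a = z
      induction z using TensorProduct.induction_on with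
      | zero => simp
      | add p q hp hq => simp only [map_add, hp, hq]
      | tmul p q => simp
    have h2 : ∀ z : TensorProduct k A A,
        Algebra.TensorProduct.productMap g g' ((TensorProduct.comm k A A).toLinearMap z) =
          Algebra.TensorProduct.productMap g' g z := by
      intro z
      induction z using TensorProduct.induction_on with
      | zero => simp
      | add p q hp hq => simp only [map_add, hp, hq]
      | tmul p q => simp [mul_comm]
    rw [map_sub, h2, h1, h1, commute_pts hdim (toConv g') (toConv g), sub_self]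

end Curve

end

end Groth.Agent.H66.DimOne
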