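import Groth.Agent.H66.DimOne.Comm
import Groth.Agent.H66.DiagCrit
import Groth.Agent.H83.HopfPts.Rosenlicht
import Groth.Agent.S7981
import Mathlib

/-! One-dimensional connected groups: the multiplicative case, and unipotence otherwise. -/

set_option autoImplicit false
set_option linter.unusedSectionVars false

universe u

open WithConv

namespace Groth.Agent.H66.DimOne

open Groth.Agent.Lib.Comod.Basic

noncomputable section

variable {k : Type u} [Field k] {A : Type u} [CommRing A] [HopfAlgebra k A]

/-- The map from the group algebra of the group-like elements. -/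
abbrev glHom : MonoidAlgebra k (GroupLike k A) →ₐc[k] A := MonoidAlgebra.liftGroupLikeBialgHom

theorem glHom_single (g : GroupLike k A) (r : k) : glHom (MonoidAlgebra.single g r) = r • (g : A) := by
  simp [glHom, MonoidAlgebra.liftGroupLikeBialgHom, Algebra.smul_def]

theorem glHom_injective : Function.Injective (glHom (k := k) (A := A)) := by
  have hli : LinearIndependent k fun g : GroupLike k A => (g : A) :=
    (linearIndepOn_isGroupLikeElem (R := k) (A := A)).linearIndependent.comp GroupLike.valEquiv
      (Equiv.injective _)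
  intro x y h
  refine MonoidAlgebra.coeff_injective (hli ?_)
  have key : ∀ z : MonoidAlgebra k (GroupLike k A),
      glHom z = Finsupp.linearCombination k (fun g : GroupLike k A => (g : A)) z.coeff := by
    intro z
    induction z using MonoidAlgebra.induction_linear with
    | zero => simp
    | add p q hp hq => rw [map_add, hp, hq, MonoidAlgebra.coeff_add, map_add]
    | single g r => simp [glHom_single]
  rw [← key, ← key, h]

theorem glHom_surjective (hD : HopfRep.IsDiagonalizable k A) : Function.Surjective (glHom (k := k) (A := A)) := by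
  intro a
  suffices h : Submodule.span k {x : A | IsGroupLikeElem k x} ≤
      LinearMap.range ((glHom (k := k) (A := A) : MonoidAlgebra k (GroupLike k A) →ₐ[k] A).toLinearMap) by
    have hD' := hD
    unfold HopfRep.IsDiagonalizable at hD'
    exact h (hD' ▸ Submodule.mem_top)
  refine Submodule.span_le.2 fun x hx => ⟨MonoidAlgebra.single (⟨x, hx⟩ : GroupLike k A) 1, ?_⟩
  show glHom (MonoidAlgebra.single (⟨x, hx⟩ : GroupLike k A) 1) = x
  rw [glHom_single, one_smul]

variable [IsAlgClosed k] [Algebra.FiniteType k A] [IsDomain A]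

theorem torsionFree_groupLike {g : GroupLike k A} {n : ℕ} (hn : 0 < n) (h : g ^ n = 1) : g = 1 := by
  have h1 : (g : A) ^ n = 1 := (GroupLike.val_pow g n).symm.trans (congrArg GroupLike.val h)
  have hne : (Polynomial.X ^ n - Polynomial.C (1 : k)) ≠ 0 := Polynomial.X_pow_sub_C_ne_zero hn 1
  have hroot : Polynomial.aeval (g : A) (Polynomial.X ^ n - Polynomial.C (1 : k)) = 0 := by simp [h1]
  rw [(IsAlgClosed.splits (Polynomial.X ^ n - Polynomial.C (1 : k))).eq_prod_roots_of_monic
    (Polynomial.monic_X_pow_sub_C 1 hn.ne'), map_multiset_prod, Multiset.map_map, Multiset.prod_eq_zero_iff,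
    Multiset.mem_map] at hroot
  obtain ⟨c, -, hc⟩ := hroot
  simp only [Function.comp_apply, map_sub, Polynomial.aeval_X, Polynomial.aeval_C, sub_eq_zero] at hc
  have h2 := g.isGroupLikeElem_val.counit_eq_one
  rw [hc, Bialgebra.counit_algebraMap] at h2
  exact GroupLike.ext (by rw [hc, h2, map_one]; rfl)

variable (hdim : ringKrullDim A = 1)

include hdim

theorem exists_ne_one : ∃ γ : WithConv (A →ₐ[k] k), γ ≠ 1 := by
  by_contra! h
  exact infinite_pts hdim ((Set.finite_singleton (1 : WithConv (A →ₐ[k] k))).subset fun γ _ => h γ)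

/-- A diagonalisable one-dimensional connected group is `Gm`. -/
theorem nonempty_Gm (hD : HopfRep.IsDiagonalizable k A) :
    Nonempty (A ≃ₐc[k] MonoidAlgebra k (Multiplicative ℤ)) := by
  classical
  let E : MonoidAlgebra k (GroupLike k A) ≃ₐc[k] A :=
    BialgEquiv.ofBijective glHom ⟨glHom_injective, glHom_surjective hD⟩
  haveI : Algebra.FiniteType k (MonoidAlgebra k (GroupLike k A)) :=
    Algebra.FiniteType.of_surjective ((E.symm : A →ₐc[k] MonoidAlgebra k (GroupLike k A)) : A →ₐ[k] _)
      (EquivLike.surjective E.symm)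
  haveI : Group.FG (GroupLike k A) := (MonoidAlgebra.finiteType_iff_group_fg (R := k)).mp inferInstance
  let M := Additive (GroupLike k A)
  haveI : Module.Finite ℤ M := Module.Finite.iff_addGroup_fg.2 inferInstance
  haveI : IsAddTorsionFree M := ⟨fun n hn x y hxy => sub_eq_zero.1 (congrArg Additive.ofMul
    (torsionFree_groupLike (g := (x - y).toMul) (n := n) hn.bot_lt
      (congrArg Additive.toMul (show n • (x - y) = 0 by rw [smul_sub, sub_eq_zero]; exact hxy))))⟩
  haveI : Module.Free ℤ M := Module.free_of_finite_type_torsion_free'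
  let b := Module.Free.chooseBasis ℤ M
  -- characters give points
  let pt : (GroupLike k A →* k) → WithConv (A →ₐ[k] k) := fun χ =>
    toConv ((MonoidAlgebra.lift k k (GroupLike k A) χ).comp
      ((E.symm : A →ₐc[k] MonoidAlgebra k (GroupLike k A)) : A →ₐ[k] MonoidAlgebra k (GroupLike k A)))
  have hpt : ∀ χ (g : GroupLike k A), (pt χ).ofConv (g : A) = χ g := by
    intro χ g
    show MonoidAlgebra.lift k k (GroupLike k A) χ (E.symm (g : A)) = χ g
    rw [show E.symm (g : A) = MonoidAlgebra.single g 1 from EquivLike.injective E (by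
      rw [show E (E.symm (g : A)) = _ from E.apply_symm_apply _]
      show (g : A) = glHom _
      rw [glHom_single, one_smul])]
    simp
  have hone : ∀ i j : Module.Free.ChooseBasisIndex ℤ M, i = j := by
    intro i j
    by_contra hij
    let g : GroupLike k A := (b i).toMul
    have hg : (g : A) - 1 ≠ 0 := fun h => b.ne_zero i (congrArg Additive.ofMul
      (GroupLike.ext (sub_eq_zero.1 h) : g = 1))
    let χ : kˣ → (GroupLike k A →* k) := fun t =>
      (Units.coeHom k).comp ((b.constr ℤ (fun l => if l = j then Additive.ofMul t else 0)).toAddMonoidHom.toMultiplicativeLeft.comp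
        (MonoidHom.id _))
    have hχi : ∀ t, χ t g = 1 := fun t => by
      show ((Additive.toMul ((b.constr ℤ fun l => if l = j then Additive.ofMul t else 0) (b i)) : kˣ) : k) = 1
      rw [b.constr_basis, if_neg hij]
      rfl
    have hχj : ∀ t, χ t (b j).toMul = (t : k) := fun t => by
      show ((Additive.toMul ((b.constr ℤ fun l => if l = j then Additive.ofMul t else 0) (b j)) : kˣ) : k) = t
      rw [b.constr_basis, if_pos rfl]
      rfl
    have hinj : Function.Injective fun t => pt (χ t) := fun s t h => Units.ext (by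
      rw [← hχj s, ← hχj t, ← hpt, ← hpt]
      exact congrArg (fun γ : WithConv (A →ₐ[k] k) => γ.ofConv _) h)
    haveI : Infinite ↥(({0} : Set k)ᶜ) := (Set.finite_singleton (0 : k)).infinite_compl.to_subtype
    haveI : Infinite kˣ := Infinite.of_injective (fun x : ↥(({0} : Set k)ᶜ) => Units.mk0 (x : k) x.2)
      fun x y h => Subtype.ext (congrArg Units.val h)
    refine Set.infinite_range_of_injective hinj ((finite_zero hdim hg).subset ?_)
    rintro _ ⟨t, rfl⟩
    show (pt (χ t)).ofConv ((g : A) - 1) = 0
    rw [map_sub, map_one, hpt, hχi, sub_self]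
  have hne : Nonempty (Module.Free.ChooseBasisIndex ℤ M) := by
    by_contra hempty
    rw [not_nonempty_iff] at hempty
    haveI : Subsingleton M := b.repr.toEquiv.subsingleton
    obtain ⟨γ, hγ⟩ := exists_ne_one (k := k) hdim
    refine hγ (WithConv.ofConv_injective (AlgHom.ext fun a => ?_))
    obtain ⟨z, rfl⟩ := glHom_surjective hD a
    induction z using MonoidAlgebra.induction_linear with
    | zero => simp
    | add p q hp hq => simp only [map_add, hp, hq]
    | single g r =>
      obtain rfl : g = 1 := congrArg Additive.toMul (Subsingleton.elim (Additive.ofMul g) 0 :)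
      rw [glHom_single, GroupLike.val_one, ← Algebra.algebraMap_eq_smul_one, AlgHom.commutes, AlgHom.commutes]
  obtain ⟨i₀⟩ := hne
  haveI : Unique (Module.Free.ChooseBasisIndex ℤ M) := { default := i₀, uniq := fun i => hone i i₀ }
  let e : M ≃ₗ[ℤ] ℤ := b.repr.trans (Finsupp.LinearEquiv.finsuppUnique ℤ ℤ _)
  let e' : GroupLike k A ≃* Multiplicative ℤ :=
    { toFun := fun g => Multiplicative.ofAdd (e (Additive.ofMul g))
      invFun := fun n => Additive.toMul (e.symm (Multiplicative.toAdd n))
      left_inv := fun g => by simp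
      right_inv := fun n => by simp
      map_mul' := fun g h => by rw [ofMul_mul, map_add]; rfl }
  exact ⟨E.symm.trans (MonoidAlgebra.domCongrBialgEquiv k k e')⟩

/-- With a nonzero primitive element there is no nontrivial character. -/
theorem groupLike_eq_one {x : A} (hx0 : x ≠ 0)
    (hx : CoalgebraStruct.comul (R := k) x = x ⊗ₜ[k] (1 : A) + (1 : A) ⊗ₜ[k] x) (g : GroupLike k A) : g = 1 := by
  classical
  by_contra hg
  have hadd : ∀ γ δ : WithConv (A →ₐ[k] k), (γ * δ).ofConv x = γ.ofConv x + δ.ofConv x := by
    intro γ δ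
    rw [AlgHom.convMul_apply, hx]
    simp
  have hmulg : ∀ γ δ : WithConv (A →ₐ[k] k), (γ * δ).ofConv (g : A) = γ.ofConv g * δ.ofConv g := by
    intro γ δ
    rw [AlgHom.convMul_apply, g.isGroupLikeElem_val.comul_eq_tmul_self]
    simp
  have hone : ∀ a : A, (1 : WithConv (A →ₐ[k] k)).ofConv a = Bialgebra.counitAlgHom k A a := fun a => by simp
  let G : WithConv (A →ₐ[k] k) →* k :=
    { toFun := fun γ => γ.ofConv g
      map_one' := by rw [hone]; exact g.isGroupLikeElem_val.counit_eq_one
      map_mul' := hmulg }
  have hxpow : ∀ (γ : WithConv (A →ₐ[k] k)) (n : ℕ), (γ ^ n).ofConv x = n * γ.ofConv x := by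
    intro γ n
    induction n with
    | zero =>
      rw [pow_zero, hone, Nat.cast_zero, zero_mul]
      have h := Coalgebra.rTensor_counit_comul (R := k) x
      rw [hx, map_add, LinearMap.rTensor_tmul, LinearMap.rTensor_tmul, Bialgebra.counit_one] at h
      have h2 := congrArg (TensorProduct.lid k A) h
      simp at h2
      show CoalgebraStruct.counit (R := k) x = 0
      exact h2
    | succ n ih => rw [pow_succ, hadd, ih, Nat.cast_succ, add_mul, one_mul]
  have hg1 : (g : A) - 1 ≠ 0 := fun h => hg (GroupLike.ext (sub_eq_zero.1 h))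
  have hGinf : (Set.range G).Infinite := by
    intro hfin
    obtain ⟨z, hz⟩ := exists_fibre hdim G hfin fun γ => ⟨γ, rfl⟩
    have h1 : (g : A) = algebraMap k A z := sub_eq_zero.1 (eq_zero_of_infinite hdim hz fun γ hγ => by
      rw [map_sub, AlgHom.commutes, sub_eq_zero]
      exact hγ)
    refine hg (GroupLike.ext ?_)
    have h2 := g.isGroupLikeElem_val.counit_eq_one
    rw [h1, Bialgebra.counit_algebraMap] at h2
    rw [h1, h2, map_one]
    rfl
  obtain ⟨p, hp⟩ := CharP.exists k
  rcases CharP.char_is_prime_or_zero k p with hprime | rfl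
  · -- characteristic `p`: `p`-th powers kill `x`
    haveI := Fact.mk hprime
    refine hx0 (eq_zero_of_infinite hdim (S := Set.range fun γ : WithConv (A →ₐ[k] k) => γ ^ p) ?_ ?_)
    · intro hfin
      refine hGinf (((hfin.image G).preimage ((frobenius_inj k p).injOn)).subset ?_)
      rintro _ ⟨γ, rfl⟩
      exact ⟨_, ⟨γ, rfl⟩, by rw [map_pow]; rfl⟩
    · rintro _ ⟨γ, rfl⟩
      rw [hxpow, CharP.cast_eq_zero, zero_mul]
  · -- characteristic zero: torsion points
    haveI : CharZero k := CharP.charP_to_charZero k
    have hker : ∀ γ : WithConv (A →ₐ[k] k), G γ = 1 → γ.ofConv x = 0 := by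
      intro γ hγ
      by_contra hne
      refine Set.infinite_range_of_injective (f := fun n : ℕ => γ ^ n) (fun m n hmn => ?_)
        ((finite_zero hdim hg1).subset ?_)
      · have h := congrArg (fun δ : WithConv (A →ₐ[k] k) => δ.ofConv x) hmn
        simp only [hxpow] at h
        exact_mod_cast mul_right_cancel₀ hne h
      · rintro _ ⟨n, rfl⟩
        show (γ ^ n).ofConv ((g : A) - 1) = 0
        rw [map_sub, map_one, sub_eq_zero]
        show G (γ ^ n) = 1
        rw [map_pow, hγ, one_pow]
    let ψ : MonoidAlgebra k (Multiplicative ℤ) →ₐc[k] A :=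
      glHom.comp (MonoidAlgebra.mapDomainBialgHom k (zpowersHom (GroupLike k A) g))
    have hψ : Function.Injective ψ := by
      refine glHom_injective.comp (MonoidAlgebra.mapDomain_injective fun m n hmn => ?_)
      have hinj : Function.Injective fun j : ℤ => g ^ j := injective_zpow_iff_not_isOfFinOrder.2 fun hfin => by
        obtain ⟨j, hj, hgj⟩ := isOfFinOrder_iff_pow_eq_one.1 hfin
        exact hg (torsionFree_groupLike hj hgj)
      exact hinj hmn
    refine hx0 (eq_zero_of_infinite hdim (S := {γ : WithConv (A →ₐ[k] k) | γ.ofConv x = 0}) (fun hfin => ?_) fun γ hγ => hγ)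
    have hroot : ∀ n : ℕ, ∃ γ : WithConv (A →ₐ[k] k), γ.ofConv x = 0 ∧ IsPrimitiveRoot (G γ) (n + 1) := by
      intro n
      haveI : NeZero ((n + 1 : ℕ) : k) := ⟨by exact_mod_cast (Nat.succ_ne_zero n)⟩
      obtain ⟨ζ, hζ⟩ := HasEnoughRootsOfUnity.exists_primitiveRoot k (n + 1)
      let u : kˣ := (hζ.isUnit (Nat.succ_ne_zero n)).unit
      obtain ⟨γ₀, hγ₀⟩ := Groth.Agent.S7981.result k A (MonoidAlgebra k (Multiplicative ℤ)) ψ hψ k
        (MonoidAlgebra.lift k k _ ((Units.coeHom k).comp (zpowersHom kˣ u)))
      have hG : G (toConv γ₀) = ζ := by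
        have h := DFunLike.congr_fun hγ₀ (MonoidAlgebra.single (Multiplicative.ofAdd 1) (1 : k))
        rw [AlgHom.comp_apply] at h
        have e1 : (ψ : MonoidAlgebra k (Multiplicative ℤ) →ₐ[k] A) (MonoidAlgebra.single (Multiplicative.ofAdd 1) (1 : k)) =
            (g : A) := by
          show ψ _ = _
          simp [ψ, glHom_single]
        rw [e1] at h
        show γ₀ (g : A) = ζ
        rw [h]
        simp [u]
      refine ⟨toConv γ₀, ?_, by rw [hG]; exact hζ⟩
      have h1 := hker (toConv γ₀ ^ (n + 1)) (by rw [map_pow, hG, hζ.pow_eq_one])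
      rw [hxpow, mul_eq_zero] at h1
      exact h1.resolve_left (by exact_mod_cast Nat.succ_ne_zero n)
    choose γ hγx hγr using hroot
    refine Set.infinite_range_of_injective (f := γ) (fun m n hmn => ?_) (hfin.subset ?_)
    · have hm := hγr m
      rw [hmn] at hm
      exact Nat.succ_injective (hm.unique (hγr n))
    · rintro _ ⟨n, rfl⟩
      exact hγx n

/-- With a nonzero primitive element the group is unipotent. -/
theorem isUnipotent_of_primitive [Coalgebra.IsCocomm k A] {x : A} (hx0 : x ≠ 0)
    (hx : CoalgebraStruct.comul (R := k) x = x ⊗ₜ[k] (1 : A) + (1 : A) ⊗ₜ[k] x) : HopfRep.IsUnipotent k A := by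
  intro V _ _ _ hV hnt
  obtain ⟨v, -, hv0, ⟨a, ha⟩, -⟩ := H66.Trigon.exists_line (V := V) H66.Trigon.isTrigonalizable_of_isCocomm
    (U := (⊤ : Submodule k V)) (isSubcomod_top (k := k) (A := A) (V := V)) top_ne_bot
  have h1 := groupLike_eq_one hdim hx0 hx ⟨a, H66.Trigon.isGroupLike_of_coact hv0 ha⟩
  refine (Submodule.ne_bot_iff _).2 ⟨v, ?_, hv0⟩
  rw [Lib.Comod.Reynolds.mem_fixedPts_iff]
  intro φ
  rw [dact_apply, ha, contract_tmul, show a = 1 from congrArg GroupLike.val h1]

end

end Groth.Agent.H66.DimOne
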